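import Cfsg.Prelude.Def_Quasithin
import Cfsg.Agent.Lib.AutPush69.Main

/-!
# Even characteristic: members of `ℋ(T)` have characteristic 2; a common normal subgroup
-/

set_option autoImplicit false
set_option linter.style.haveILetI false

open Cfsg

namespace Cfsg.Agent.Lib.QTPush69

universe u

variable {G : Type u} [Group G] [Finite G]

/-- A member of `ℋ(T)` has characteristic 2. -/
theorem good (hK : IsOfEvenCharacteristic G) (T : Sylow 2 G) {H : Subgroup G}
    (hH : H ∈ calHOver (T : Subgroup G)) : QTSetup.Char2.Good 2 H := by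
  haveI : Fact (Nat.Prime 2) := ⟨Nat.prime_two⟩
  obtain ⟨hH2, hTH⟩ := hH
  set Q := QTSetup.Char2.coreP 2 H with hQdef
  have hQne : Q ≠ ⊥ := fun h => hH2 ((Subgroup.map_eq_bot_iff_of_injective _ H.subtype_injective).1 h)
  set M := Subgroup.normalizer (Q : Set G) with hMdef
  have hHM : H ≤ M := QTSetup.Char2.le_normalizer_coreP H
  have hMgood : QTSetup.Char2.Good 2 M := QTSetup.Char2.good_iff.2
    (hK M ⟨Q, QTSetup.Char2.coreP_isPGroup H, hQne, rfl⟩ ⟨T, hTH.trans hHM⟩)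
  have hOM : QTSetup.Char2.coreP 2 M ≤ (T : Subgroup G) := by
    rintro _ ⟨a, ha, rfl⟩
    exact Cores.pCore_le_sylow (T.subtype (hTH.trans hHM)) ha
  intro x hx hcop hc
  refine hMgood x (hHM hx) hcop (Subgroup.centralizer_le ?_ hc)
  exact QTSetup.Char2.le_coreP (hOM.trans hTH)
    (hHM.trans (QTSetup.Char2.le_normalizer_coreP M)) (QTSetup.Char2.coreP_isPGroup M)

/-- The common normal subgroup of `M₀` and a group with a unique maximal subgroup over `T`. -/
theorem exists_common (HS : CGT57.CStarTheorem.{u}) (hK : IsOfEvenCharacteristic G) (T : Sylow 2 G)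
    {M₀ H : Subgroup G} (hTM : (T : Subgroup G) ≤ M₀) (hH : H ∈ calHOver (T : Subgroup G))
    (hU : ∃! K : Subgroup ↥H, IsCoatom K ∧ (T : Subgroup G).subgroupOf H ≤ K) {R : Subgroup G} (hR : R ≠ ⊥)
    (hRT : R ≤ (T : Subgroup G))
    (hRS : ∃ P : Sylow 2 ↥(oddGenerated H ⊔ R),
      (P : Subgroup ↥(oddGenerated H ⊔ R)) = R.subgroupOf (oddGenerated H ⊔ R))
    (hRM : M₀ ≤ Subgroup.normalizer (R : Set G)) :
    ∃ R₀ : Subgroup G, R₀ ≠ ⊥ ∧ R₀ ≤ R ∧ M₀ ⊔ H ≤ Subgroup.normalizer (R₀ : Set G) :=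
  AutPush69.pushUp HS hK T M₀ H R hTM hH.2 (good hK T hH) hU hR hRT hRS hRM

end Cfsg.Agent.Lib.QTPush69
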